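import Mathlib
import Cfsg.Agent.Lib.Helper79.NilCover.Defs

set_option autoImplicit false

/-!
S3894 package [CI]: counting lemma I for minimal covers.
-/

namespace Cfsg.Agent.Lib.Helper11.NilCover

open Cfsg.Agent.Lib.Helper79.NilCover

universe u v

theorem pkgCoverI : PkgCoverI.{u, v} := by
  intro Γ _ ι _ hne S a b hS 𝓐 hprop hcov hmin h1a h1b h2a h2b h3
  classical
  haveI : Fintype ι := Fintype.ofFinite ι
  obtain ⟨S', hS'⟩ : ∃ S' : Finset (Subgroup Γ), S' = Finset.univ.image S := ⟨_, rfl⟩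
  obtain ⟨A0, hA0⟩ : ∃ A0 : Finset (Subgroup Γ), A0 = 𝓐.filter (fun A => ∃ i, A ≤ S i) :=
    ⟨_, rfl⟩
  have hmemS' : ∀ i, S i ∈ S' := fun i => by
    rw [hS']
    exact Finset.mem_image_of_mem S (Finset.mem_univ i)
  have hmemA0 : ∀ A, A ∈ A0 ↔ A ∈ 𝓐 ∧ ∃ i, A ≤ S i := fun A => by
    rw [hA0, Finset.mem_filter]
  have hA0sub : A0 ⊆ 𝓐 := fun A hA => ((hmemA0 A).mp hA).1
  have hBle : 𝓐.card ≤ ((𝓐 \ A0) ∪ S').card := by
    apply hmin
    refine ⟨?_, ?_⟩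
    · intro A hA
      rw [Finset.mem_union] at hA
      rcases hA with hA | hA
      · exact hprop A (Finset.mem_sdiff.mp hA).1
      · rw [hS', Finset.mem_image] at hA
        obtain ⟨i, -, rfl⟩ := hA
        exact hS i
    · intro g
      obtain ⟨A, hA, hgA⟩ := hcov g
      by_cases hA0' : A ∈ A0
      · obtain ⟨i, hi⟩ := ((hmemA0 A).mp hA0').2
        exact ⟨S i, Finset.mem_union_right _ (hmemS' i), hi hgA⟩
      · exact ⟨A, Finset.mem_union_left _ (Finset.mem_sdiff.mpr ⟨hA, hA0'⟩), hgA⟩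
  have hcard1 : ((𝓐 \ A0) ∪ S').card ≤ 𝓐.card - A0.card + S'.card := by
    calc ((𝓐 \ A0) ∪ S').card ≤ (𝓐 \ A0).card + S'.card := Finset.card_union_le _ _
      _ = 𝓐.card - A0.card + S'.card := by rw [Finset.card_sdiff_of_subset hA0sub]
  have hA0le : A0.card ≤ 𝓐.card := Finset.card_le_card hA0sub
  have hex : ∀ T ∈ S', ∃ A ∈ 𝓐, ∃ i, S i = T ∧ a i ∈ A := by
    intro T hT
    rw [hS', Finset.mem_image] at hT
    obtain ⟨i, -, rfl⟩ := hT
    obtain ⟨A, hA, hiA⟩ := hcov (a i)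
    exact ⟨A, hA, i, rfl, hiA⟩
  choose! f hf𝓐 i hi hia using hex
  have hfle : ∀ T ∈ S', f T ≤ T := by
    intro T hT
    have h1 := h1a (f T) (hf𝓐 T hT) (i T) (hia T hT)
    rwa [hi T hT] at h1
  have hfA0 : ∀ T ∈ S', f T ∈ A0 := by
    intro T hT
    rw [hmemA0]
    exact ⟨hf𝓐 T hT, i T, by rw [hi T hT]; exact hfle T hT⟩
  have hinj : Set.InjOn f (S' : Set (Subgroup Γ)) := by
    intro T hT T' hT' hTT'
    have h1 : a (i T) ∈ S (i T') := by
      rw [hi T' hT']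
      apply hfle T' hT'
      rw [← hTT']
      exact hia T hT
    have h2 := h2a (i T) (i T') h1
    rw [hi T hT, hi T' hT'] at h2
    exact h2
  obtain ⟨i0⟩ := hne
  have hT0 : S i0 ∈ S' := hmemS' i0
  obtain ⟨β, hβ, hbβ⟩ := hcov (b (i (S i0)))
  have hβle : β ≤ S (i (S i0)) := h1b β hβ _ hbβ
  have hβA0 : β ∈ A0 := by
    rw [hmemA0]
    exact ⟨hβ, _, hβle⟩
  have hsub : S'.image f ⊆ A0.erase β := by
    intro A hA
    rw [Finset.mem_image] at hA
    obtain ⟨T, hT, rfl⟩ := hA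
    rw [Finset.mem_erase]
    refine ⟨?_, hfA0 T hT⟩
    intro heq
    have h1 : a (i T) ∈ S (i (S i0)) := hβle (heq ▸ hia T hT)
    have h2 := h2a (i T) (i (S i0)) h1
    rw [hi T hT, hi (S i0) hT0] at h2
    rw [h2] at heq
    exact h3 (f (S i0)) (hf𝓐 _ hT0) (i (S i0)) (hia _ hT0) (heq ▸ hbβ)
  have hcard := Finset.card_le_card hsub
  rw [Finset.card_image_of_injOn hinj, Finset.card_erase_of_mem hβA0] at hcard
  have hpos : 0 < A0.card := Finset.card_pos.mpr ⟨β, hβA0⟩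
  omega

end Cfsg.Agent.Lib.Helper11.NilCover
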