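import Mathlib
import Cfsg.Agent.Lib.Helper79.NilCover.Defs

set_option autoImplicit false

/-!
S3894 package [CII]: counting lemma II for minimal covers.
-/

namespace Cfsg.Agent.Lib.Helper11.NilCover

open Cfsg.Agent.Lib.Helper79.NilCover

universe u v

theorem pkgCoverII : PkgCoverII.{u, v} := by
  intro Γ _ ι _ S a b hS hScov 𝓐 hcov hmin h1 h3
  classical
  haveI : Fintype ι := Fintype.ofFinite ι
  haveI : Nonempty ι := ⟨(hScov 1).choose⟩
  have hBle : 𝓐.card ≤ (Finset.univ.image S).card := by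
    apply hmin
    refine ⟨?_, ?_⟩
    · intro A hA
      rw [Finset.mem_image] at hA
      obtain ⟨i, -, rfl⟩ := hA
      exact hS i
    · intro g
      obtain ⟨i, hi⟩ := hScov g
      exact ⟨S i, Finset.mem_image_of_mem S (Finset.mem_univ i), hi⟩
  have hex : ∀ T ∈ Finset.univ.image S, ∃ A ∈ 𝓐, ∃ i, S i = T ∧ a i ∈ A := by
    intro T hT
    rw [Finset.mem_image] at hT
    obtain ⟨i, -, rfl⟩ := hT
    obtain ⟨A, hA, hiA⟩ := hcov (a i)
    exact ⟨A, hA, i, rfl, hiA⟩
  choose! f hf𝓐 i hi hia using hex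
  obtain ⟨β, hβ, hbβ⟩ := hcov b
  have hinj : Set.InjOn f ((Finset.univ.image S : Finset (Subgroup Γ)) : Set (Subgroup Γ)) := by
    intro T hT T' hT' hTT'
    have h2 := h1 (f T) (hf𝓐 T hT) (i T) (i T') (hia T hT) (by rw [hTT']; exact hia T' hT')
    rw [hi T hT, hi T' hT'] at h2
    exact h2
  have hsub : (Finset.univ.image S).image f ⊆ 𝓐.erase β := by
    intro A hA
    rw [Finset.mem_image] at hA
    obtain ⟨T, hT, rfl⟩ := hA
    rw [Finset.mem_erase]
    refine ⟨?_, hf𝓐 T hT⟩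
    intro heq
    exact h3 (f T) (hf𝓐 T hT) (i T) (hia T hT) (heq ▸ hbβ)
  have hcard := Finset.card_le_card hsub
  rw [Finset.card_image_of_injOn hinj, Finset.card_erase_of_mem hβ] at hcard
  have hpos : 0 < 𝓐.card := Finset.card_pos.mpr ⟨β, hβ⟩
  omega

end Cfsg.Agent.Lib.Helper11.NilCover
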