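import Mathlib
import Cfsg.Agent.Lib.Helper79.NilCover.Defs

set_option autoImplicit false

/-!
S3894 package [ENG]: a nilpotent `K` containing `u ∈ S` lies in `S` as soon as
`γ u γ⁻¹ ∈ S` forces `γ ∈ S`.
-/

namespace Cfsg.Agent.Lib.Helper11.NilCover

open Cfsg.Agent.Lib.Helper79.NilCover

open scoped commutatorElement

universe u

theorem pkgEngel : PkgEngel.{u} := by
  intro Γ _ K S hK u huK huS h
  obtain ⟨c, hc⟩ := (Subgroup.isNilpotent_iff_lowerCentralSeries K).mp hK
  have hleK : ∀ n : ℕ, K.lowerCentralSeries n ≤ K := fun n => by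
    have h1 := Subgroup.lowerCentralSeries_antitone K (Nat.zero_le n)
    rwa [Subgroup.lowerCentralSeries_zero] at h1
  have key : ∀ j n : ℕ, n + j = c → ∀ γ : Γ, γ ∈ K.lowerCentralSeries n → γ ∈ S := by
    intro j
    induction j with
    | zero =>
      intro n hn γ hγ
      rw [add_zero] at hn
      rw [hn, hc, Subgroup.mem_bot] at hγ
      rw [hγ]
      exact S.one_mem
    | succ j ih =>
      intro n hn γ hγ
      have hcomm : ⁅γ, u⁆ ∈ K.lowerCentralSeries (n + 1) :=
        Subgroup.commutator_mem_commutator hγ huK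
      have h1 := ih (n + 1) (by omega) _ hcomm
      rw [commutatorElement_def] at h1
      apply h γ (hleK n hγ)
      have h3 := S.mul_mem h1 huS
      simpa using h3
  intro γ hγ
  exact key c 0 (by omega) γ (by rw [Subgroup.lowerCentralSeries_zero]; exact hγ)

end Cfsg.Agent.Lib.Helper11.NilCover
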